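import Groth.Agent.Lib.FLCRep18.Main
import Groth.Agent.Lib.LocConst.Connected
import Groth.Agent.Lib.LocConst.Pull
import Groth.Agent.Lib.EtSite.ConnFibres

/-!
# Trivialising finite locally constant sheaves on finite étale covers
-/

set_option autoImplicit false
set_option backward.isDefEq.respectTransparency false
set_option backward.isDefEq.respectTransparency.types false

universe u

open CategoryTheory CategoryTheory.Limits AlgebraicGeometry Opposite
open GrothLib.EtSite GrothLib.LocConst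

noncomputable section

namespace GrothLib.FLCTriv18

variable {X : Scheme.{u}} {F : EtCoh.Ab X}

/-- Finitely many sections are pulled back from one finite étale scheme. -/
theorem exists_finite_weakly_universal (hF : EtCoh.IsFiniteLocallyConstant F) (n : ℕ) :
    ∃ (V : X.Etale) (_ : IsFinite V.hom) (s : Fin n → EtCoh.sect F V),
      ∀ (T : X.Etale) (s' : Fin n → EtCoh.sect F T), ∃ g : T ⟶ V, ∀ i, F.obj.map g.op (s i) = s' i := by
  obtain ⟨U, hU, ⟨e⟩⟩ := GrothLib.FLCRep18.isFiniteLocallyConstant_representable F hF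
  let u₀ : EtCoh.sect F U := e.inv.app (op U) (ULift.up (𝟙 U) : ULift.{u + 1} (U ⟶ U))
  have huniv : ∀ (T : X.Etale) (t : EtCoh.sect F T), ∃ g : T ⟶ U, F.obj.map g.op u₀ = t := fun T t => by
    refine ⟨(e.hom.app (op T) t).down, ?_⟩
    let k : T ⟶ U := (e.hom.app (op T) t).down
    have h := congr($(e.inv.naturality k.op) (ULift.up (𝟙 U) : ULift.{u + 1} (U ⟶ U)))
    refine h.symm.trans ?_
    refine (congrArg (fun q : T ⟶ U => e.inv.app (op T) (ULift.up q : ULift.{u + 1} (T ⟶ U)))
      (Category.comp_id k)).trans ?_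
    exact congr($(e.hom_inv_id_app (op T)) t)
  induction n with
  | zero =>
    exact ⟨EtCoh.top X, inferInstanceAs (IsFinite (𝟙 X)), Fin.elim0,
      fun T _ => ⟨(EtCore.topIsTerminal X).from T, fun i => i.elim0⟩⟩
  | succ n ih =>
    obtain ⟨V, hV, s, hs⟩ := ih
    haveI := hV
    haveI := hU
    haveI : Etale V.hom := V.prop
    haveI : Etale U.hom := U.prop
    let W : X.Etale := MorphismProperty.Over.mk _ (pullback.fst V.hom U.hom ≫ V.hom)
      (inferInstanceAs (Etale (pullback.fst V.hom U.hom ≫ V.hom)))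
    let p : W ⟶ V := MorphismProperty.Over.homMk (pullback.fst V.hom U.hom) rfl trivial
    let q : W ⟶ U := MorphismProperty.Over.homMk (pullback.snd V.hom U.hom) pullback.condition.symm trivial
    refine ⟨W, inferInstanceAs (IsFinite (pullback.fst V.hom U.hom ≫ V.hom)),
      Fin.cons (F.obj.map q.op u₀) (fun i => F.obj.map p.op (s i)), fun T s' => ?_⟩
    obtain ⟨g, hg⟩ := hs T (Fin.tail s')
    obtain ⟨h, hh⟩ := huniv T (s' 0)
    let k : T ⟶ W := MorphismProperty.Over.homMk
      (pullback.lift g.left h.left ((MorphismProperty.Over.w g).trans (MorphismProperty.Over.w h).symm)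
        : T.left ⟶ pullback V.hom U.hom)
      (by
        change pullback.lift _ _ _ ≫ pullback.fst V.hom U.hom ≫ V.hom = T.hom
        rw [pullback.lift_fst_assoc]
        exact MorphismProperty.Over.w g) trivial
    have hp : k ≫ p = g := MorphismProperty.Over.Hom.ext (pullback.lift_fst _ _ _)
    have hq : k ≫ q = h := MorphismProperty.Over.Hom.ext (pullback.lift_snd _ _ _)
    refine ⟨k, Fin.cases ?_ fun i => ?_⟩
    · rw [Fin.cons_zero, ← hh, ← hq, op_comp, Functor.map_comp, ConcreteCategory.comp_apply]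
    · rw [Fin.cons_succ, ← ConcreteCategory.comp_apply, ← Functor.map_comp, ← op_comp, hp]
      exact hg i

variable {M : Type} [AddCommGroup M]

/-- The germs of a family of sections form an additive bijection. -/
def Good {V : X.Etale} (s : M → EtCoh.sect F V) {Ω : Type u} [Field Ω] [IsSepClosed Ω]
    (ξ : Spec (CommRingCat.of Ω) ⟶ X) (t : (Scheme.pointSmallEtale ξ).fiber.obj V) : Prop :=
  (∀ m m', germ ξ F t (s (m + m')) = germ ξ F t (s m) + germ ξ F t (s m')) ∧
    Function.Bijective fun m => germ ξ F t (s m)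

variable [Finite M]

/-- Goodness is constant near every geometric point. -/
theorem exists_nhd_good (hc : ∀ x : X, ∃ (U : X.Etale) (u : U.left),
      U.hom.base u = x ∧ ∃ a : M →+ EtCoh.sect F U, IsChart F U a)
    {V : X.Etale} (s : M → EtCoh.sect F V) {Ω : Type u} [Field Ω] [IsSepClosed Ω]
    (ξ : Spec (CommRingCat.of Ω) ⟶ X) (t : (Scheme.pointSmallEtale ξ).fiber.obj V) :
    ∃ (T : X.Etale) (g : T ⟶ V) (t₁ : (Scheme.pointSmallEtale ξ).fiber.obj T),
      (Scheme.pointSmallEtale ξ).fiber.map g t₁ = t ∧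
      ∀ (Ω' : Type u) [Field Ω'] [IsSepClosed Ω'] (ξ' : Spec (CommRingCat.of Ω') ⟶ X)
        (t' : (Scheme.pointSmallEtale ξ').fiber.obj T),
        (Good s ξ' ((Scheme.pointSmallEtale ξ').fiber.map g t') ↔ Good s ξ t) := by
  obtain ⟨U, u, hu, a, ha⟩ := hc (ξ.base default)
  obtain ⟨tU, -⟩ := exists_fib ξ u hu
  obtain ⟨W, w, gV, gU, hwV, hwU⟩ := exists_refine₂ ξ t tU
  have haW := ha.map gU
  let eW : M ≃+ (EtCoh.stalk ξ).obj F :=
    AddEquiv.ofBijective ((germ ξ F w).hom.comp ((F.obj.map gU.op).hom.comp a)) (haW Ω ξ w)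
  let σ : M → M := fun m => eW.symm (germ ξ F t (s m))
  have hσ : ∀ m, germ ξ F w (F.obj.map gV.op (s m)) = germ ξ F w (F.obj.map gU.op (a (σ m))) := fun m => by
    rw [germ_map, hwV]
    exact (eW.apply_symm_apply _).symm
  obtain ⟨T, g, t₁, ht₁, hT⟩ := exists_refine_eq ξ F w _ _ hσ
  refine ⟨T, g ≫ gV, t₁, by rw [Functor.map_comp, ConcreteCategory.comp_apply, ht₁, hwV], ?_⟩
  have key : ∀ (Ω' : Type u) [Field Ω'] [IsSepClosed Ω'] (ξ' : Spec (CommRingCat.of Ω') ⟶ X)
      (t' : (Scheme.pointSmallEtale ξ').fiber.obj T),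
      (Good s ξ' ((Scheme.pointSmallEtale ξ').fiber.map (g ≫ gV) t') ↔
        (∀ m m', σ (m + m') = σ m + σ m') ∧ Function.Bijective σ) := by
    intro Ω' _ _ ξ' t'
    have haT := haW.map g
    let e : M ≃+ (EtCoh.stalk ξ').obj F :=
      AddEquiv.ofBijective ((germ ξ' F t').hom.comp ((F.obj.map g.op).hom.comp ((F.obj.map gU.op).hom.comp a)))
        (haT Ω' ξ' t')
    have hgerm : ∀ m, germ ξ' F ((Scheme.pointSmallEtale ξ').fiber.map (g ≫ gV) t') (s m) = e (σ m) :=
      fun m => by
        rw [← germ_map, op_comp, Functor.map_comp, ConcreteCategory.comp_apply]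
        exact congrArg (germ ξ' F t') (hT m)
    unfold Good
    simp only [hgerm]
    refine and_congr (forall₂_congr fun m m' => ?_) ?_
    · rw [← map_add, e.injective.eq_iff]
    · exact Function.Bijective.of_comp_iff' e.bijective σ
  intro Ω' _ _ ξ' t'
  rw [key Ω' ξ' t', ← key Ω ξ t₁]
  rw [show (Scheme.pointSmallEtale ξ).fiber.map (g ≫ gV) t₁ = t by
    rw [Functor.map_comp, ConcreteCategory.comp_apply, ht₁, hwV]]

/-- A finite locally constant sheaf with a single value group is constant on a finite étale cover. -/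
theorem exists_finite_cover_const (hF : EtCoh.IsFiniteLocallyConstant F)
    (hc : ∀ x : X, ∃ (U : X.Etale) (u : U.left),
      U.hom.base u = x ∧ ∃ a : M →+ EtCoh.sect F U, IsChart F U a) :
    ∃ W : X.Etale, IsFinite W.hom ∧ Surjective W.hom ∧
      Nonempty ((EtCoh.pull W.hom).obj F ≅ EtCoh.const W.left M) := by
  classical
  haveI : Fintype M := Fintype.ofFinite M
  let eM := Fintype.equivFin M
  obtain ⟨V, hV, s₀, hs₀⟩ := exists_finite_weakly_universal hF (Fintype.card M)
  haveI := hV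
  haveI : Etale V.hom := V.prop
  let s : M → EtCoh.sect F V := fun m => s₀ (eM m)
  let S : Set V.left := {v | ∀ (Ω : Type u) [Field Ω] [IsSepClosed Ω] (ξ : Spec (CommRingCat.of Ω) ⟶ X)
    (t : (Scheme.pointSmallEtale ξ).fiber.obj V), t.left.base (default : Spec (CommRingCat.of Ω)) = v → Good s ξ t}
  have hopen : ∀ {T : X.Etale} (g : T ⟶ V), IsOpen (Set.range g.left.base) := fun g => by
    haveI : Etale g.left := GrothLib.ConnFibres.etale_left g
    exact g.left.isOpenMap.isOpen_range
  have hloc : ∀ v : V.left, ∃ (T : X.Etale) (g : T ⟶ V) (Q : Prop), v ∈ Set.range g.left.base ∧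
      ∀ (Ω' : Type u) [Field Ω'] [IsSepClosed Ω'] (ξ' : Spec (CommRingCat.of Ω') ⟶ X)
        (t' : (Scheme.pointSmallEtale ξ').fiber.obj T),
        (Good s ξ' ((Scheme.pointSmallEtale ξ').fiber.map g t') ↔ Q) := fun v => by
    obtain ⟨t, ht⟩ := exists_fib (gpt (V.hom.base v)) v (gpt_default _).symm
    obtain ⟨T, g, t₁, ht₁, hT⟩ := exists_nhd_good hc s _ t
    exact ⟨T, g, _, ⟨_, (base_fiber_map _ g t₁ t ht₁).trans ht⟩, hT⟩
  have hmem : ∀ (v : V.left) (T : X.Etale) (g : T ⟶ V) (Q : Prop), v ∈ Set.range g.left.base →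
      (∀ (Ω' : Type u) [Field Ω'] [IsSepClosed Ω'] (ξ' : Spec (CommRingCat.of Ω') ⟶ X)
        (t' : (Scheme.pointSmallEtale ξ').fiber.obj T),
        (Good s ξ' ((Scheme.pointSmallEtale ξ').fiber.map g t') ↔ Q)) → (v ∈ S ↔ Q) := by
    rintro v T g Q ⟨τ, rfl⟩ hT
    refine ⟨fun hv => ?_, fun hQ Ω _ _ ξ t ht => ?_⟩
    · obtain ⟨tT, htT⟩ := exists_fib (gpt (T.hom.base τ)) τ (gpt_default _).symm
      exact (hT _ _ tT).1 (hv _ _ _ (congrArg g.left.base htT))
    · obtain ⟨T', g', t₁, ht₁, hT'⟩ := exists_nhd_good hc s ξ t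
      obtain ⟨z, hz, hz'⟩ := Scheme.Pullback.exists_preimage_pullback (f := g.left) (g := g'.left) τ
        (t₁.left.base (default : Spec (CommRingCat.of Ω))) ((ht.symm.trans (base_fiber_map _ g' t₁ t ht₁).symm))
      haveI : Etale T.hom := T.prop
      haveI : Etale g'.left := GrothLib.ConnFibres.etale_left g'
      let P : X.Etale := MorphismProperty.Over.mk _ (pullback.fst g.left g'.left ≫ T.hom)
        (inferInstanceAs (Etale (pullback.fst g.left g'.left ≫ T.hom)))
      let pT : P ⟶ T := MorphismProperty.Over.homMk (pullback.fst g.left g'.left) rfl trivial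
      let pT' : P ⟶ T' := MorphismProperty.Over.homMk (pullback.snd g.left g'.left) (by
        rw [← MorphismProperty.Over.w g']
        refine (Category.assoc _ _ _).symm.trans ?_
        rw [← pullback.condition, Category.assoc, MorphismProperty.Over.w g]
        rfl) trivial
      have hPg : pT ≫ g = pT' ≫ g' := MorphismProperty.Over.Hom.ext pullback.condition
      obtain ⟨tP, -⟩ := exists_fib (gpt (P.hom.base z)) (U := P) z (gpt_default _).symm
      refine (hT' _ _ ((Scheme.pointSmallEtale _).fiber.map pT' tP)).1 ?_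
      rw [← ConcreteCategory.comp_apply, ← Functor.map_comp, ← hPg, Functor.map_comp,
        ConcreteCategory.comp_apply]
      exact (hT _ _ _).2 hQ
  have hSo : IsOpen S := isOpen_iff_forall_mem_open.2 fun v hv => by
    obtain ⟨T, g, Q, hvT, hT⟩ := hloc v
    have hQ := (hmem v T g Q hvT hT).1 hv
    exact ⟨_, fun w hw => (hmem w T g Q hw hT).2 hQ, hopen g, hvT⟩
  have hSc : IsClosed S := by
    rw [← isOpen_compl_iff]
    refine isOpen_iff_forall_mem_open.2 fun v hv => ?_
    obtain ⟨T, g, Q, hvT, hT⟩ := hloc v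
    exact ⟨_, fun w hw hwS => hv ((hmem v T g Q hvT hT).2 ((hmem w T g Q hw hT).1 hwS)), hopen g, hvT⟩
  let Ws : V.left.Opens := ⟨S, hSo⟩
  haveI : IsClosedImmersion Ws.ι := by
    refine IsClosedImmersion.of_isPreimmersion _ ?_
    rw [Scheme.Opens.range_ι]
    exact hSc
  let W : X.Etale := MorphismProperty.Over.mk _ (Ws.ι ≫ V.hom) (inferInstanceAs (Etale (Ws.ι ≫ V.hom)))
  let ι : W ⟶ V := MorphismProperty.Over.homMk Ws.ι rfl trivial
  have hgood : ∀ (Ω : Type u) [Field Ω] [IsSepClosed Ω] (ξ : Spec (CommRingCat.of Ω) ⟶ X)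
      (t : (Scheme.pointSmallEtale ξ).fiber.obj W),
      Good s ξ ((Scheme.pointSmallEtale ξ).fiber.map ι t) := fun Ω _ _ ξ t =>
    (show ((Scheme.pointSmallEtale ξ).fiber.map ι t).left.base (default : Spec (CommRingCat.of Ω)) ∈ S from (t.left.base (default : Spec (CommRingCat.of Ω))).2) Ω ξ _ rfl
  let aW : M →+ EtCoh.sect F W := AddMonoidHom.mk' (fun m => F.obj.map ι.op (s m)) fun m m' => by
    rw [← sub_eq_zero]
    refine section_eq_zero_of_germs F W _ fun Ω _ _ ξ t => ?_
    rw [map_sub, map_add, germ_map, germ_map, germ_map, sub_eq_zero]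
    exact (hgood Ω ξ t).1 m m'
  have haW : IsChart F W aW := fun Ω _ _ ξ t => by
    convert (hgood Ω ξ t).2 using 2 with m
    exact germ_map ξ F ι t (s m)
  refine ⟨W, inferInstanceAs (IsFinite (Ws.ι ≫ V.hom)), ⟨fun x => ?_⟩, ?_⟩
  · obtain ⟨U, u, hu, a, ha⟩ := hc x
    obtain ⟨g, hg⟩ := hs₀ U fun i => a (eM.symm i)
    have hgU : ∀ (Ω' : Type u) [Field Ω'] [IsSepClosed Ω'] (ξ' : Spec (CommRingCat.of Ω') ⟶ X)
        (t' : (Scheme.pointSmallEtale ξ').fiber.obj U),
        (Good s ξ' ((Scheme.pointSmallEtale ξ').fiber.map g t') ↔ True) := fun Ω' _ _ ξ' t' => by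
      refine iff_true_intro ?_
      have hm : ∀ m, germ ξ' F ((Scheme.pointSmallEtale ξ').fiber.map g t') (s m) = germ ξ' F t' (a m) :=
        fun m => by rw [← germ_map]; exact congrArg (germ ξ' F t') ((hg (eM m)).trans (by rw [eM.symm_apply_apply]))
      refine ⟨fun m m' => ?_, ?_⟩
      · rw [hm, hm, hm, map_add, map_add]
      · simp only [hm]
        exact ha Ω' ξ' t'
    have hmemS : g.left.base u ∈ S := (hmem _ U g True ⟨u, rfl⟩ hgU).2 trivial
    refine ⟨⟨g.left.base u, hmemS⟩, ?_⟩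
    change V.hom.base (g.left.base u) = x
    rw [← hu]
    exact congrArg (fun k : U.left ⟶ X => k.base u) (MorphismProperty.Over.w g)
  · exact (restr_iso_const_iff F W _).1 ((restr_iso_const_iff_chart F W _).2
      ⟨_, haW.comp_equiv AddEquiv.ulift⟩)

end GrothLib.FLCTriv18
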