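import Groth.Agent.Lib.FLCTriv18.Basic
import Groth.Agent.Lib.EtQc13.ASConst
import Mathlib.GroupTheory.Perm.Cycle.Type
import Mathlib.GroupTheory.QuotientGroup.Finite

/-!
# Vanishing for finite `p`-group coefficients on affine schemes of characteristic `p`
-/

set_option autoImplicit false
set_option backward.isDefEq.respectTransparency false
set_option backward.isDefEq.respectTransparency.types false

universe u

open CategoryTheory CategoryTheory.Limits CategoryTheory.Abelian AlgebraicGeometry Opposite

noncomputable section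

namespace GrothLib.FLCTriv18

variable (X : Scheme.{u})

/-- A short exact sequence of groups gives one of constant sheaves. -/
theorem shortExact_const {A B C : Type} [AddCommGroup A] [AddCommGroup B] [AddCommGroup C]
    (i : A →+ B) (q : B →+ C) (hi : Function.Injective i) (hq : Function.Surjective q)
    (h : ∀ b, q b = 0 ↔ ∃ a, i a = b) :
    ∃ S : ShortComplex (EtCoh.Ab X), S.ShortExact ∧ S.X₁ = EtCoh.const X A ∧ S.X₂ = EtCoh.const X B ∧
      S.X₃ = EtCoh.const X C := by
  let up : ∀ {A B : Type} [AddCommGroup A] [AddCommGroup B] (f : A →+ B),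
      AddCommGrpCat.of (ULift.{u + 1} A) ⟶ AddCommGrpCat.of (ULift.{u + 1} B) := fun f =>
    AddCommGrpCat.ofHom (AddEquiv.ulift.symm.toAddMonoidHom.comp (f.comp AddEquiv.ulift.toAddMonoidHom))
  have hzero : up i ≫ up q = 0 := by
    ext a
    exact (h _).2 ⟨_, rfl⟩
  let S₀ := ShortComplex.mk (up i) (up q) hzero
  have hS₀ : S₀.ShortExact := by
    haveI : Mono S₀.f := (AddCommGrpCat.mono_iff_injective _).2 fun a b hab =>
      ULift.ext _ _ (hi (congrArg ULift.down hab))
    haveI : Epi S₀.g := (AddCommGrpCat.epi_iff_surjective _).2 fun c => by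
      obtain ⟨b, hb⟩ := hq c.down
      exact ⟨ULift.up b, ULift.ext _ _ hb⟩
    refine { exact := ?_ }
    rw [ShortComplex.ab_exact_iff]
    intro b hb
    obtain ⟨a, ha⟩ := (h b.down).1 (congrArg ULift.down hb)
    exact ⟨ULift.up a, ULift.ext _ _ ha⟩
  let K := Functor.const (X.Etale)ᵒᵖ (C := AddCommGrpCat.{u + 1})
  have h1 : (S₀.map K).ShortExact := hS₀.map_of_exact K
  exact ⟨_, h1.map_of_exact (presheafToSheaf X.smallEtaleTopology AddCommGrpCat.{u + 1}), rfl, rfl, rfl⟩

/-- Affine schemes of characteristic `p` have no cohomology above one with finite `p`-group coefficients. -/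
theorem subsingleton_H_pGroup [IsAffine X] (p : ℕ) [Fact p.Prime] (h0 : (p : Γ(X, ⊤)) = 0) (r : ℕ)
    (M : Type) [AddCommGroup M] [Finite M] (hM : ∀ m : M, ∃ j : ℕ, p ^ j • m = 0) :
    Subsingleton (EtCoh.H X (EtCoh.const X M) (r + 2)) := by
  induction hc : Nat.card M using Nat.strong_induction_on generalizing M with
  | _ c ih =>
    subst hc
    rcases subsingleton_or_nontrivial M with hs | hn
    · refine Sheaf.subsingleton_H_of_isZero ?_ _
      haveI : Subsingleton (ULift.{u + 1} M) := inferInstance
      exact Functor.map_isZero (presheafToSheaf _ _)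
        (Functor.map_isZero _ (AddCommGrpCat.isZero_of_subsingleton (AddCommGrpCat.of (ULift.{u + 1} M))))
    · obtain ⟨m, hm⟩ := exists_ne (0 : M)
      obtain ⟨j, hj⟩ := hM m
      obtain ⟨x, hx⟩ : ∃ x : M, addOrderOf x = p := by
        classical
        let j₀ := Nat.find (⟨j, hj⟩ : ∃ j, p ^ j • m = 0)
        have h₀ : p ^ j₀ • m = 0 := Nat.find_spec (⟨j, hj⟩ : ∃ j, p ^ j • m = 0)
        have hj₀ : j₀ ≠ 0 := fun h => hm (by rwa [h, pow_zero, one_nsmul] at h₀)
        obtain ⟨i, hi⟩ := Nat.exists_eq_succ_of_ne_zero hj₀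
        refine ⟨p ^ i • m, addOrderOf_eq_prime ?_ ?_⟩
        · rw [← mul_nsmul', ← pow_succ']
          rwa [hi] at h₀
        · exact Nat.find_min (⟨j, hj⟩ : ∃ j, p ^ j • m = 0) (show i < j₀ by omega)
      have hpx : p • x = 0 := hx ▸ addOrderOf_nsmul_eq_zero x
      let i : ZMod p →+ M := ZMod.lift p ⟨zmultiplesHom M x, by
        change (p : ℤ) • x = 0
        rw [natCast_zsmul]; exact hpx⟩
      have hi : Function.Injective i := (ZMod.lift_injective _).2 fun z hz => by
        change z • x = 0 at hz
        rw [ZMod.intCast_zmod_eq_zero_iff_dvd]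
        rw [← hx]
        exact addOrderOf_dvd_iff_zsmul_eq_zero.2 hz
      let Q := M ⧸ i.range
      obtain ⟨S, hS, h₁, h₂, h₃⟩ := shortExact_const X i (QuotientAddGroup.mk' i.range) hi
        (QuotientAddGroup.mk'_surjective _) fun b => (QuotientAddGroup.eq_zero_iff b).trans Iff.rfl
      have hQ : Subsingleton (EtCoh.H X (EtCoh.const X Q) (r + 2)) := by
        refine ih (Nat.card Q) ?_ Q (fun q => ?_) rfl
        · have hcard := AddSubgroup.card_eq_card_quotient_mul_card_addSubgroup i.range
          rw [hcard]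
          have hr : Nat.card i.range = p := by
            rw [Nat.card_congr (AddMonoidHom.ofInjective hi).toEquiv.symm, Nat.card_zmod]
          rw [hr]
          exact lt_mul_of_one_lt_right Nat.card_pos (Fact.out : p.Prime).one_lt
        · obtain ⟨b, rfl⟩ := QuotientAddGroup.mk'_surjective _ q
          obtain ⟨j, hj⟩ := hM b
          exact ⟨j, by rw [← map_nsmul, hj, map_zero]⟩
      rw [← h₂]
      refine subsingleton_of_forall_eq 0 fun y => ?_
      have hzQ : Ext.comp y (Ext.mk₀ S.g) (add_zero (r + 2)) = 0 := by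
        rw [← h₃] at hQ
        exact @Subsingleton.elim _ hQ _ _
      obtain ⟨z, hz⟩ := Ext.covariant_sequence_exact₂ _ hS y hzQ
      rw [← hz]
      have hz0 : ∀ w : EtCoh.H X (EtCoh.const X (ZMod p)) (r + 2), w = 0 :=
        GrothLib.EtQc13.H_const_eq_zero X p h0 r
      rw [← h₁] at hz0
      rw [hz0 z]
      exact Ext.zero_comp ..

end GrothLib.FLCTriv18
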